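import Mathlib.RingTheory.AdicCompletion.Basic
import Groth.Prelude.Def_GrMap2
import Groth.Prelude.Def_AssocGrMod

/-! Successive approximation for filtered modules over a (pre)complete ring. -/

set_option autoImplicit false
universe u v w

namespace K887.Approx

variable {A : Type u} [CommRing A] {I : Ideal A}

/-- Successive approximation. -/
theorem approx [IsPrecomplete I A] {M : Type v} [AddCommGroup M] [Module A M]
    (N : ℕ → Submodule A M) (hanti : Antitone N)
    (hsmul : ∀ m n (a : A) (y : M), a ∈ I ^ m → y ∈ N n → a • y ∈ N (m + n))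
    (hsep : ∀ y : M, (∀ n, y ∈ N n) → y = 0)
    {ι : Type w} [Fintype ι] (d : ι → ℕ) (x : ι → M) (hx : ∀ i, x i ∈ N (d i))
    (P : ℕ → M → Prop) (hP : ∀ n y, P n y → y ∈ N n)
    (hstep : ∀ n y, P n y → ∃ a : ι → A, (∀ i, a i ∈ I ^ (n - d i)) ∧
      P (n + 1) (y - ∑ i, a i • x i)) (n : ℕ) (y : M) (hy : P n y) :
    ∃ c : ι → A, (∀ i, c i ∈ I ^ (n - d i)) ∧ y = ∑ i, c i • x i := by
  classical
  choose α hα hα' using hstep
  let r : (j : ℕ) → {z : M // P (n + j) z} := fun j =>
    Nat.rec ⟨y, hy⟩ (fun j z => ⟨z.1 - ∑ i, α (n + j) z.1 z.2 i • x i, hα' (n + j) z.1 z.2⟩) j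
  let b : ℕ → ι → A := fun j i => α (n + j) (r j).1 (r j).2 i
  have hb : ∀ j i, b j i ∈ I ^ (n + j - d i) := fun j i => hα _ _ _ _
  have hr0 : (r 0).1 = y := rfl
  have hrs : ∀ j, (r (j + 1)).1 = (r j).1 - ∑ i, b j i • x i := fun j => rfl
  let s : ℕ → ι → A := fun j i => ∑ l ∈ Finset.range j, b l i
  have hss : ∀ j i, s (j + 1) i = s j i + b j i := fun j i => Finset.sum_range_succ _ _
  have hrsum : ∀ j, (r j).1 = y - ∑ i, s j i • x i := by
    intro j
    induction j with
    | zero => simp [s, hr0]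
    | succ j ih =>
      rw [hrs, ih]
      simp only [hss, add_smul, Finset.sum_add_distrib]
      abel
  have hdiff : ∀ i j k, j ≤ k → s (k + d i) i - s (j + d i) i ∈ I ^ (n + j) := by
    intro i j k hjk
    induction k, hjk using Nat.le_induction with
    | base => simp
    | succ k hk ih =>
      have : s (k + 1 + d i) i - s (j + d i) i = (s (k + d i) i - s (j + d i) i) + b (k + d i) i := by
        rw [show k + 1 + d i = (k + d i) + 1 by ring, hss]; ring
      rw [this]
      refine Ideal.add_mem _ ih ?_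
      have h1 := hb (k + d i) i
      exact Ideal.pow_le_pow_right (by omega) h1
  have hlim : ∀ i, ∃ c : A, ∀ j, s (j + d i) i - c ∈ I ^ j := by
    intro i
    obtain ⟨c, hc⟩ := IsPrecomplete.prec (I := I) (M := A) inferInstance (f := fun j => s (j + d i) i)
      (fun {j k} hjk => by
        rw [SModEq.sub_mem, smul_eq_mul, Ideal.mul_top, ← neg_sub]
        exact Submodule.neg_mem _ (Ideal.pow_le_pow_right (Nat.le_add_left _ _) (hdiff i j k hjk)))
    refine ⟨c, fun j => ?_⟩
    have h1 := hc j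
    rwa [SModEq.sub_mem, smul_eq_mul, Ideal.mul_top] at h1
  choose c hc using hlim
  have hsmem : ∀ i j, s j i ∈ I ^ (n - d i) := by
    intro i j
    refine Ideal.sum_mem _ fun l _ => Ideal.pow_le_pow_right ?_ (hb l i)
    omega
  refine ⟨c, fun i => ?_, ?_⟩
  · have h1 := hc i n
    have h2 : c i = s (n + d i) i - (s (n + d i) i - c i) := by ring
    rw [h2]
    exact Ideal.sub_mem _ (hsmem _ _) (Ideal.pow_le_pow_right (Nat.sub_le _ _) h1)
  · rw [← sub_eq_zero]
    apply hsep
    intro t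
    obtain ⟨D, hD⟩ : ∃ D, ∀ i, d i ≤ D :=
      ⟨∑ i, d i, fun i => Finset.single_le_sum (fun _ _ => Nat.zero_le _) (Finset.mem_univ i)⟩
    have h1 : y - ∑ i, c i • x i = (r (t + D)).1 + ∑ i, (s (t + D) i - c i) • x i := by
      rw [hrsum]
      simp only [sub_smul, Finset.sum_sub_distrib]
      abel
    rw [h1]
    refine Submodule.add_mem _ (hanti (by omega) (hP _ _ (r (t + D)).2)) ?_
    refine Submodule.sum_mem _ fun i _ => ?_
    have h2 := hc i (t + D - d i)
    rw [Nat.sub_add_cancel (le_trans (hD i) (Nat.le_add_left _ _))] at h2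
    have h3 := hsmul _ _ _ _ h2 (hx i)
    rw [Nat.sub_add_cancel (le_trans (hD i) (Nat.le_add_left _ _))] at h3
    exact hanti (Nat.le_add_right _ _) h3

section Mod

variable {M : Type u} [AddCommGroup M] [Module A M] (F : I.Filtration M)

theorem coeff_sum {ι : Type w} (s : Finset ι) (y : ι → AssocGr.ReesM F) (n : ℕ) :
    AssocGr.ReesM.coeff F (∑ i ∈ s, y i) n = ∑ i ∈ s, AssocGr.ReesM.coeff F (y i) n := by
  rw [← AssocGr.ReesM.coeffHom_apply, map_sum]
  rfl

theorem coeff_sub (y z : AssocGr.ReesM F) (n : ℕ) :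
    AssocGr.ReesM.coeff F (y - z) n =
      AssocGr.ReesM.coeff F y n - AssocGr.ReesM.coeff F z n := by
  rw [← AssocGr.ReesM.coeffHom_apply, map_sub]
  rfl

theorem coeff_smul_monomM (f : ↥(FiltBl.IdealFiltration.adic I).rees) (d : ℕ) (x : F.N d) (n : ℕ) :
    AssocGr.ReesM.coeff F (f • AssocGr.monomM F d x) n =
      (if d ≤ n then (f : Polynomial A).coeff (n - d) else 0) • (x : M) := by
  rw [AssocGr.ReesM.coeff_smul]
  simp only [AssocGr.ReesM.coeff_monomM, smul_ite, smul_zero, ite_smul, zero_smul]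
  split_ifs with h
  · rw [Finset.sum_eq_single (n - d, d)]
    · simp
    · rintro ⟨i, j⟩ hij hne
      rw [Finset.mem_antidiagonal] at hij
      rw [if_neg]
      rintro rfl
      apply hne
      simp only at hij
      ext <;> simp <;> omega
    · intro hn
      exact (hn (Finset.mem_antidiagonal.mpr (Nat.sub_add_cancel h))).elim
  · refine Finset.sum_eq_zero ?_
    rintro ⟨i, j⟩ hij
    rw [Finset.mem_antidiagonal] at hij
    rw [if_neg]
    simp only at hij ⊢
    omega

/-- Degreewise extraction of a relation in the associated graded module. -/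
theorem extract {ι : Type w} [Fintype ι] (d : ι → ℕ) (x : (i : ι) → ↥(F.N (d i))) (n : ℕ)
    (m : F.N n)
    (hm : (AssocGr.inDegM F n m : AssocGr.GrMod F) ∈
      Submodule.span (AssocGr.GrRing (FiltBl.IdealFiltration.adic I))
      (Set.range fun i => (AssocGr.inDegM F (d i) (x i) : AssocGr.GrMod F))) :
    ∃ a : ι → A, (∀ i, a i ∈ I ^ (n - d i)) ∧ (m : M) - ∑ i, a i • (x i : M) ∈ F.N (n + 1) := by
  classical
  obtain ⟨c, hc⟩ := (Submodule.mem_span_range_iff_exists_fun _).mp hm
  choose f hf using fun i => AssocGr.mkG_surjective (FiltBl.IdealFiltration.adic I) (c i)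
  refine ⟨fun i => if d i ≤ n then (f i : Polynomial A).coeff (n - d i) else 0, fun i => ?_, ?_⟩
  · dsimp only
    split_ifs with h
    · exact (f i).2 (n - d i)
    · exact Submodule.zero_mem _
  · have h0 : AssocGr.mkGM F (AssocGr.monomM F n m - ∑ i, f i • AssocGr.monomM F (d i) (x i)) = 0 := by
      rw [map_sub, ← AssocGr.coe_inDegM, ← hc, map_sum, sub_eq_zero]
      refine Finset.sum_congr rfl fun i _ => ?_
      rw [← hf i, AssocGr.coe_inDegM, AssocGr.mkG_smul_mkGM]
    rw [AssocGr.mkGM_eq_zero_iff, AssocGr.mem_succMod_iff] at h0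
    have h1 := h0 n
    rw [coeff_sub, coeff_sum, AssocGr.ReesM.coeff_monomM, if_pos rfl] at h1
    simpa only [coeff_smul_monomM] using h1

/-- Generation from the associated graded module, for a filtration-compatible family of subsets. -/
theorem mem_span_of_forall [IsPrecomplete I A] (hsep : ⨅ n, F.N n = ⊥)
    {ι : Type w} [Fintype ι] (d : ι → ℕ) (x : (i : ι) → ↥(F.N (d i)))
    (Q : Submodule A M) (hxQ : ∀ i, (x i : M) ∈ Q)
    (hgen : ∀ (n : ℕ) (m : F.N n), (m : M) ∈ Q → (AssocGr.inDegM F n m : AssocGr.GrMod F) ∈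
      Submodule.span (AssocGr.GrRing (FiltBl.IdealFiltration.adic I))
      (Set.range fun i => (AssocGr.inDegM F (d i) (x i) : AssocGr.GrMod F)))
    (n : ℕ) (y : M) (hy : y ∈ F.N n) (hyQ : y ∈ Q) :
    y ∈ Submodule.span A (Set.range fun i => ((x i : ↥(F.N (d i))) : M)) := by
  obtain ⟨c, -, hc⟩ := approx (I := I) F.N F.antitone
    (fun m n a y ha hy => F.pow_smul_le m n (Submodule.smul_mem_smul ha hy))
    (fun y hy => by
      have : y ∈ ⨅ n, F.N n := by simpa [Submodule.mem_iInf] using hy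
      rw [hsep] at this
      simpa using this) d (fun i => (x i : M)) (fun i => (x i).2)
    (fun n y => y ∈ F.N n ∧ y ∈ Q) (fun _ _ h => h.1)
    (fun n y hy => by
      obtain ⟨a, ha, ha'⟩ := extract F d x n ⟨y, hy.1⟩ (hgen n ⟨y, hy.1⟩ hy.2)
      exact ⟨a, ha, ha', Submodule.sub_mem _ hy.2
        (Submodule.sum_mem _ fun i _ => Submodule.smul_mem _ _ (hxQ i))⟩) n y ⟨hy, hyQ⟩
  rw [hc]
  exact Submodule.sum_mem _ fun i _ => Submodule.smul_mem _ _ (Submodule.subset_span ⟨i, rfl⟩)

end Mod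

end K887.Approx
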