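import Groth.Agent.AdicGr.K887.Approx

/-! Finite generation and closedness of submodules from the associated graded module. -/

set_option autoImplicit false
universe u v w

namespace K887.Gen

open K887.Approx

variable {A : Type u} [CommRing A] {I : Ideal A} {M : Type u} [AddCommGroup M] [Module A M]
  (F : I.Filtration M)

/-- The classes in the associated graded module of the elements of `Q`. -/
def classes (Q : Submodule A M) : Set (AssocGr.GrMod F) :=
  {z | ∃ (n : ℕ) (m : F.N n), (m : M) ∈ Q ∧ (AssocGr.inDegM F n m : AssocGr.GrMod F) = z}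

theorem span_classes_top :
    Submodule.span (AssocGr.GrRing (FiltBl.IdealFiltration.adic I)) (classes F ⊤) = ⊤ := by
  rw [eq_top_iff]
  rintro z -
  obtain ⟨y, rfl⟩ := AssocGr.mkGM_surjective F z
  rw [← AssocGr.sum_termM F y, map_sum]
  refine Submodule.sum_mem _ fun n _ => Submodule.subset_span ?_
  exact ⟨n, ⟨AssocGr.ReesM.coeff F y n, AssocGr.ReesM.coeff_mem F y n⟩, trivial, rfl⟩

/-- Homogeneous generators. -/
theorem exists_generators (Q : Submodule A M)
    (hfg : (Submodule.span (AssocGr.GrRing (FiltBl.IdealFiltration.adic I)) (classes F Q)).FG) :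
    ∃ (s : Finset (AssocGr.GrMod F)) (d : s → ℕ) (x : (i : s) → ↥(F.N (d i))),
      (∀ i, (x i : M) ∈ Q) ∧ (∀ i, (AssocGr.inDegM F (d i) (x i) : AssocGr.GrMod F) = i) ∧
      ∀ (n : ℕ) (m : F.N n), (m : M) ∈ Q → (AssocGr.inDegM F n m : AssocGr.GrMod F) ∈
        Submodule.span (AssocGr.GrRing (FiltBl.IdealFiltration.adic I))
        (Set.range fun i => (AssocGr.inDegM F (d i) (x i) : AssocGr.GrMod F)) := by
  classical
  obtain ⟨s, hs, hs'⟩ := (Submodule.fg_span_iff_fg_span_finset_subset _).mp hfg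
  choose d x hxQ hx using fun i : s => hs i.2
  refine ⟨s, d, x, hxQ, hx, fun n m hm => ?_⟩
  have h1 : (AssocGr.inDegM F n m : AssocGr.GrMod F) ∈
      Submodule.span (AssocGr.GrRing (FiltBl.IdealFiltration.adic I)) (classes F Q) :=
    Submodule.subset_span ⟨n, m, hm, rfl⟩
  rw [hs'] at h1
  convert h1 using 2
  ext z
  simp only [Set.mem_range, Finset.mem_coe]
  constructor
  · rintro ⟨i, rfl⟩
    rw [hx i]
    exact i.2
  · intro hz
    exact ⟨⟨z, hz⟩, hx _⟩

/-- A submodule whose classes generate a finitely generated submodule of the associated graded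
module is finitely generated and closed. -/
theorem fg_and_closed [IsPrecomplete I A] (h0 : F.N 0 = ⊤) (hsep : ⨅ n, F.N n = ⊥)
    (Q : Submodule A M)
    (hfg : (Submodule.span (AssocGr.GrRing (FiltBl.IdealFiltration.adic I)) (classes F Q)).FG) :
    Q.FG ∧ ⨅ n, Q ⊔ F.N n = Q := by
  obtain ⟨s, d, x, hxQ, hx, hgen⟩ := exists_generators F Q hfg
  have hle : Submodule.span A (Set.range fun i => ((x i : ↥(F.N (d i))) : M)) ≤ Q := by
    rw [Submodule.span_le]
    rintro _ ⟨i, rfl⟩
    exact hxQ i
  have hcl : (⨅ n, Q ⊔ F.N n) ≤ Submodule.span A (Set.range fun i => ((x i : ↥(F.N (d i))) : M)) := by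
    intro y hy
    refine mem_span_of_forall F hsep d x (⨅ n, Q ⊔ F.N n)
      (fun i => (Submodule.mem_iInf _).mpr fun n => Submodule.mem_sup_left (hxQ i)) ?_ 0 y
      (by rw [h0]; trivial) hy
    intro n m hm
    obtain ⟨q, hq, z, hz, hqz⟩ := Submodule.mem_sup.mp ((Submodule.mem_iInf _).mp hm (n + 1))
    have hqn : q ∈ F.N n := by
      have : q = (m : M) - z := by rw [← hqz]; abel
      rw [this]
      exact Submodule.sub_mem _ m.2 (F.antitone (Nat.le_succ n) hz)
    have hcls : AssocGr.inDegM F n m = AssocGr.inDegM F n ⟨q, hqn⟩ := by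
      rw [← sub_eq_zero, ← map_sub, AssocGr.inDegM_eq_zero_iff]
      change (m : M) - q ∈ _
      have : (m : M) - q = z := by rw [← hqz]; abel
      rw [this]
      exact hz
    rw [hcls]
    exact hgen n ⟨q, hqn⟩ hq
  have hQ : Q ≤ ⨅ n, Q ⊔ F.N n := le_iInf fun n => le_sup_left
  have heq : Q = Submodule.span A (Set.range fun i => ((x i : ↥(F.N (d i))) : M)) :=
    le_antisymm (hQ.trans hcl) hle
  refine ⟨?_, le_antisymm (hcl.trans hle) hQ⟩
  rw [heq]
  exact Submodule.fg_span (Set.finite_range _)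

end K887.Gen
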